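import Groth.Agent.SpaceCurveLib.Isotropic
import Groth.Agent.CurveH0Lib.Clifford

/-!
# Castelnuovo's genus bound for curves in space
-/

set_option autoImplicit false
set_option linter.unusedSectionVars false
set_option linter.style.haveILetI false
universe u v

open FunFld
open Groth.Agent.FFLib hiding degHom
open CastelBiratLib

noncomputable section

namespace SpaceCurveLib

variable {k : Type u} {K : Type v} [Field k] [IsAlgClosed k] [Field K] [Algebra k K]
  (hK : FunFld.IsFunctionField k K) {C : Divisor k K} (hC : IsCanonical k K C)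

include hK in
theorem finite_ram_of_not_iso {E E' : Divisor k K} (hle : L E' ≤ L E) (h : ¬ Iso (L E')) :
    {P : Place k K | ell E < ell (E - Finsupp.single P 1 - Finsupp.single P 1) + 2}.Finite := by
  unfold Iso at h
  push Not at h
  obtain ⟨a, ha, b, hb, s, H, hH, hne⟩ := h
  have ha0 : a ≠ 0 := fun e => hne (by
    rw [e]
    have : LocRes.hasseD H 1 (0 : K) = 0 := map_zero (hasseDer H hH)
    rw [this]
    ring)
  rw [hasseD_div hH a b ha0] at hne
  rcases hasseD_eq_zero_or_sep hK (b / a) with h0 | ⟨hc, hsep⟩
  · exact absurd (by rw [h0 s H hH, mul_zero]) hne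
  · exact finite_ram_of_sep hK (hle hb) (hle ha) ha0 hc hsep

include hK in
/-- The projection from a general point has no base points, and so do general double projections. -/
theorem finite_not_bpf_of_ram {D : Divisor k K} (h2 : 2 ≤ ell D) (hD : Bpf D) (hbir : Birat D)
    (hram : {P : Place k K | ell D < ell (D - Finsupp.single P 1 - Finsupp.single P 1) + 2}.Finite) :
    {P : Place k K | ¬ Bpf (D - Finsupp.single P 1)}.Finite := by
  classical
  obtain ⟨S, hS⟩ := hbir
  have hX1 : ∀ R : Place k K, {P : Place k K | ¬ ell (D - Finsupp.single R 1 - Finsupp.single P 1) < ell (D - Finsupp.single R 1)}.Finite :=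
    fun R => finite_base hK (by have := step hK D R; omega)
  refine (((S.finite_toSet.union hram)).union (S.finite_toSet.biUnion fun R _ => hX1 R)).subset
    fun P hP => ?_
  by_contra hcon
  simp only [Set.mem_union, Finset.mem_coe, Set.mem_setOf_eq, Set.mem_iUnion, not_or, not_exists, not_not] at hcon
  obtain ⟨⟨hPS, hP2⟩, hP3⟩ := hcon
  refine hP fun R => ?_
  by_cases hR : R ∈ S
  · have := hP3 R hR
    rw [sub_right_comm] at this
    have := step hK (D - Finsupp.single P 1) R
    have := step hK D R
    have := step hK D P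
    have := hD R
    have := hD P
    omega
  rcases eq_or_ne R P with rfl | hne
  · have := step hK D R; omega
  · exact hS P R hPS hR (Ne.symm hne)

include hK in
/-- The trick with two sections without a common zero. -/
theorem trick_pair {B H : Divisor k K} (h2 : 2 ≤ ell B) (hbpf : Bpf B) :
    2 * ell H ≤ ell (B + H) + ell (H - B) := by
  classical
  haveI := Groth.Agent.S10976.result k K hK B
  haveI := Groth.Agent.S10976.result k K hK H
  haveI := Groth.Agent.S10976.result k K hK (B + H)
  haveI := Groth.Agent.S10976.result k K hK (H - B)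
  obtain ⟨s, hs, hs0⟩ := exists_ne_zero hK (E := B) (by omega)
  haveI : Finite {P : Place k K | s ∈ L (B - Finsupp.single P 1)} := (finite_zeros hK hs hs0).to_subtype
  obtain ⟨t', ht'⟩ := Submodule.exists_forall_notMem_of_forall_ne_top
    (fun P : {P : Place k K | s ∈ L (B - Finsupp.single P 1)} =>
      (L (B - Finsupp.single (P : Place k K) 1)).comap (L B).subtype) fun P htop => by
    haveI := Groth.Agent.S10976.result k K hK (B - Finsupp.single (P : Place k K) 1)
    have hle : L B ≤ L (B - Finsupp.single (P : Place k K) 1) := fun x hx =>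
      (Submodule.mem_comap.1 (htop.ge (Submodule.mem_top : (⟨x, hx⟩ : L B) ∈ ⊤)))
    exact absurd (Submodule.finrank_mono hle) (not_le.2 (hbpf _))
  obtain ⟨t, ht⟩ := t'
  have hexact : ∀ P, s ∈ L (B - Finsupp.single P 1) → t ∉ L (B - Finsupp.single P 1) := fun P hP h =>
    ht' ⟨P, hP⟩ h
  let f : L H × L H →ₗ[k] L (B + H) :=
    { toFun := fun x => ⟨s * x.1.1 + t * x.2.1, add_mem (CurveH0Lib.mul_mem_L hs x.1.2) (CurveH0Lib.mul_mem_L ht x.2.2)⟩
      map_add' := fun x y => Subtype.ext (by simp; ring)
      map_smul' := fun c x => Subtype.ext (by simp [Algebra.smul_def]; ring) }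
  have hker : ∀ x : LinearMap.ker f, x.1.2.1 / s ∈ L (H - B) := fun x => by
    rcases eq_or_ne x.1.2.1 0 with h0 | h0
    · rw [h0, zero_div]; exact zero_mem _
    have hx : s * x.1.1.1 + t * x.1.2.1 = 0 := congrArg Subtype.val (LinearMap.mem_ker.1 x.2)
    refine (mem_L_iff (div_ne_zero h0 hs0)).2 fun P => ?_
    rw [Finsupp.sub_apply]
    by_cases hP : s ∈ L (B - Finsupp.single P 1)
    · obtain ⟨ht0, hto⟩ := ord_eq_of_notMem ht (hexact P hP)
      have h1 : x.1.1.1 = -(x.1.2.1 / s * t) := by
        refine mul_left_cancel₀ hs0 ?_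
        field_simp
        linear_combination hx
      have h3 : x.1.2.1 / s * t ∈ L H := by
        have := neg_mem x.1.1.2
        rwa [h1, neg_neg] at this
      have h4 := (mem_L_iff (mul_ne_zero (div_ne_zero h0 hs0) ht0)).1 h3 P
      rw [ord_mul P (div_ne_zero h0 hs0) ht0, hto] at h4
      omega
    · obtain ⟨-, hso⟩ := ord_eq_of_notMem hs hP
      have h4 := (mem_L_iff h0).1 x.1.2.2 P
      rw [div_eq_mul_inv, ord_mul P h0 (inv_ne_zero hs0), ord_inv, hso]
      omega
  let g : LinearMap.ker f →ₗ[k] L (H - B) :=
    { toFun := fun x => ⟨x.1.2.1 / s, hker x⟩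
      map_add' := fun x y => Subtype.ext (by simp [add_div])
      map_smul' := fun c x => Subtype.ext (by simp [Algebra.smul_def, mul_div_assoc]) }
  have hg' : Function.Injective g := by
    rw [injective_iff_map_eq_zero]
    intro x hx
    have h0 : x.1.2.1 = 0 := (div_eq_zero_iff.1 (congrArg Subtype.val hx)).resolve_right hs0
    have hx' : s * x.1.1.1 + t * x.1.2.1 = 0 := congrArg Subtype.val (LinearMap.mem_ker.1 x.2)
    rw [h0, mul_zero, add_zero] at hx'
    exact Subtype.ext (Prod.ext (Subtype.ext ((mul_eq_zero.1 hx').resolve_left hs0)) (Subtype.ext h0))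
  have h5 := LinearMap.finrank_le_finrank_of_injective hg'
  have h6 := LinearMap.finrank_range_add_finrank_ker f
  have h7 := Submodule.finrank_le (LinearMap.range f)
  rw [Module.finrank_prod] at h6
  simp only [ell]
  omega

include hK hC in
/-- Castelnuovo's bound. -/
theorem genus_le {D : Divisor k K} (hs : Sep2 D) (h4 : 4 ≤ ell D) :
    4 * (genus k K : ℤ) ≤ (D.deg - 2) ^ 2 := by
  classical
  have hbpf : Bpf D := fun P => by
    have := hs P P
    have := step hK (D - Finsupp.single P 1) P
    omega
  have hbir : Birat D := ⟨∅, fun P Q _ _ _ => by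
    have := hs P Q
    have := hbpf P
    have := step hK D P
    omega⟩
  haveI := infinite_places hK
  have hbad : {P : Place k K | ¬ (Bpf (D - Finsupp.single P 1) ∧ Birat (D - Finsupp.single P 1))}.Finite := by
    refine finite_not_birat_of_ram hK h4 hbpf hbir ?_ fun B hB => ?_
    · convert Set.finite_empty
      ext P
      simp only [Set.mem_setOf_eq, Set.mem_empty_iff_false, iff_false, not_lt]
      exact (hs P P).le
    · obtain ⟨Q, hQ, hn⟩ := exists_not_iso hK hs h4 hB
      exact ⟨Q, hQ, finite_ram_of_not_iso hK le_rfl hn,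
        finite_ram_of_not_iso hK (L_mono (sub_single_le _ Q)) hn⟩
  -- second differences are at least two
  have hrec : ∀ j : ℕ, 2 ≤ ell (C - j • D) → 2 * ell ((j + 1) • D) + 2 ≤ ell ((j + 2) • D) + ell (j • D) := by
    intro j hj
    obtain ⟨P, -, hP⟩ := Set.infinite_univ.exists_notMem_finite (hbad.union (finite_base hK (E := C - j • D) (by omega)))
    simp only [Set.mem_union, Set.mem_setOf_eq, not_or, not_not] at hP
    obtain ⟨⟨hbP, hbirP⟩, hPc⟩ := hP
    have hstP := step hK (C - j • D) P
    have hlP : 3 ≤ ell (D - Finsupp.single P 1) := by have := step hK D P; omega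
    obtain ⟨Q, -, hQ⟩ := Set.infinite_univ.exists_notMem_finite
      ((finite_not_bpf_of_ram hK (by omega) hbP hbirP (finite_ram_of_not_iso hK le_rfl (not_iso_sub hK hs h4 P))).union
        (finite_base hK (E := C - j • D - Finsupp.single P 1) (by omega)))
    simp only [Set.mem_union, Set.mem_setOf_eq, not_or, not_not] at hQ
    obtain ⟨hbQ, hQc⟩ := hQ
    have hlQ : 2 ≤ ell (D - Finsupp.single P 1 - Finsupp.single Q 1) := by
      have := step hK (D - Finsupp.single P 1) Q; omega
    have htr := trick_pair hK (H := (j + 1) • D) hlQ hbQ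
    have hbm : ∀ m : ℕ, Bpf ((m + 1) • D) := fun m => by
      induction m with
      | zero => rw [zero_add, one_nsmul]; exact hbpf
      | succ m ih => exact fun R => by rw [succ_nsmul]; exact ell_sub_lt_add hK ih hbpf R
    have h1 := ell_sub_lt_add hK (hbm j) hbpf P
    have h2 := ell_sub_lt_add hK (hbm j) hbP Q
    rw [show (j + 1) • D + D - Finsupp.single P 1 = (j + 1) • D + (D - Finsupp.single P 1) by abel,
      ← succ_nsmul, show j + 1 + 1 = j + 2 from rfl] at h1
    rw [show (j + 1) • D + (D - Finsupp.single P 1) - Finsupp.single Q 1 =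
      D - Finsupp.single P 1 - Finsupp.single Q 1 + (j + 1) • D by abel] at h2
    rw [show (j + 1) • D - (D - Finsupp.single P 1 - Finsupp.single Q 1) = j • D + Finsupp.single P 1 + Finsupp.single Q 1 by
      rw [succ_nsmul]; abel] at htr
    have r0 := riemann_roch hK hC (j • D)
    have r2 := riemann_roch hK hC (j • D + Finsupp.single P 1 + Finsupp.single Q 1)
    rw [show C - (j • D + Finsupp.single P 1 + Finsupp.single Q 1) = C - j • D - Finsupp.single P 1 - Finsupp.single Q 1 by abel,
      deg_add, deg_add, deg_single, deg_single, deg_eq_one hK, deg_eq_one hK] at r2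
    have hstQ := step hK (C - j • D - Finsupp.single P 1) Q
    push_cast at r2
    omega
  have hex : ∃ m : ℕ, ell (C - m • D) ≤ 1 := by
    refine ⟨2 * genus k K + 1, ?_⟩
    have hd : 3 ≤ D.deg := by have := deg_ge hK (D := D) (by omega); omega
    have h0 := ell_eq_zero_of_deg_neg hK.1 (D := C - (2 * genus k K + 1) • D) (by
      rw [deg_sub, deg_nsmul, (canonical_ell_deg hK hC).2]
      push_cast
      nlinarith)
    omega
  let m := Nat.find hex
  have hm : ell (C - m • D) ≤ 1 := Nat.find_spec hex
  have hgrow : ∀ j : ℕ, j ≤ m → (j + 2) ^ 2 ≤ ell ((j + 1) • D) ∧ ell (j • D) + (2 * j + 3) ≤ ell ((j + 1) • D) := by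
    intro j
    induction j with
    | zero => intro _; simp only [zero_add, one_nsmul, zero_nsmul, ell_zero hK]; omega
    | succ j ih =>
      intro hj
      obtain ⟨h1, h2⟩ := ih (by omega)
      have := hrec j (by
        have := Nat.find_min hex (m := j) (show j < Nat.find hex by omega)
        omega)
      have e : (j + 1 + 2) ^ 2 = (j + 2) ^ 2 + (2 * j + 5) := by ring
      rw [e, show j + 1 + 1 = j + 2 from rfl]
      constructor <;> omega
  have hlast : ell (C - (m + 1) • D) = 0 := by
    by_contra hne
    have h := CurveH0Lib.ell_add_ell_le hK (D := C - (m + 1) • D) (E := D) (by omega) (by omega)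
    rw [show C - (m + 1) • D + D = C - m • D by rw [succ_nsmul]; abel] at h
    omega
  have hr := riemann_roch hK hC ((m + 1) • D)
  rw [hlast, deg_nsmul] at hr
  have hsq : ((m : ℤ) + 2) ^ 2 ≤ (ell ((m + 1) • D) : ℤ) := by exact_mod_cast (hgrow m le_rfl).1
  push_cast at hr
  nlinarith [sq_nonneg (2 * ((m : ℤ) + 1) - (D.deg - 2))]

end SpaceCurveLib

end
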