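import Groth.Agent.CastelBiratLib.Bound
import Groth.Agent.FFLib.DiffDiv
import Groth.Agent.FFLib.Deriv

/-!
# Tangent lines of embedded curves do not conspire

For a linear system embedding the curve, some tangent line gives a separable projection, and so
does every projection from a point of the curve. This holds in every characteristic.
-/

set_option autoImplicit false
set_option linter.unusedSectionVars false
set_option linter.style.haveILetI false
universe u v

open FunFld
open Groth.Agent.FFLib hiding degHom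
open CastelBiratLib

noncomputable section

namespace SpaceCurveLib

variable {k : Type u} {K : Type v} [Field k] [IsAlgClosed k] [Field K] [Algebra k K]
  (hK : FunFld.IsFunctionField k K)

/-- The linear system embeds: every two places, possibly equal, impose two conditions. -/
def Sep2 (D : Divisor k K) : Prop :=
  ∀ P Q : Place k K, ell (D - Finsupp.single P 1 - Finsupp.single Q 1) + 2 = ell D

/-- All Wronskians in a space of functions vanish. -/
def Iso (W : Submodule k K) : Prop :=
  ∀ a ∈ W, ∀ b ∈ W, ∀ (s : K) (H : K →ₐ[k] PowerSeries K), LocRes.IsHasseFamily s H →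
    a * LocRes.hasseD H 1 b - b * LocRes.hasseD H 1 a = 0

theorem hasseD_div {s : K} {H : K →ₐ[k] PowerSeries K} (hH : LocRes.IsHasseFamily s H) (a b : K) (ha : a ≠ 0) :
    a * LocRes.hasseD H 1 b - b * LocRes.hasseD H 1 a = a ^ 2 * LocRes.hasseD H 1 (b / a) := by
  have h := (hasseDer H hH).leibniz (b / a) a
  simp only [hasseDer_apply, smul_eq_mul, div_mul_cancel₀ b ha] at h
  have h2 : (b / a) * a = b := div_mul_cancel₀ b ha
  linear_combination a * h - LocRes.hasseD H 1 a * h2.symm

theorem hasseD_sub {s : K} {H : K →ₐ[k] PowerSeries K} (hH : LocRes.IsHasseFamily s H) (a b : K) :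
    LocRes.hasseD H 1 (a + b) = LocRes.hasseD H 1 a + LocRes.hasseD H 1 b :=
  map_add (hasseDer H hH) a b

include hK in
theorem hasseD_eq_zero_or_sep (t : K) :
    (∀ (s : K) (H : K →ₐ[k] PowerSeries K), LocRes.IsHasseFamily s H → LocRes.hasseD H 1 t = 0) ∨
      (t ∉ Set.range (algebraMap k K) ∧ Algebra.IsSeparable (IntermediateField.adjoin k ({t} : Set K)) K) := by
  by_cases hc : t ∈ Set.range (algebraMap k K)
  · obtain ⟨c, rfl⟩ := hc
    exact Or.inl fun s H hH => Derivation.map_algebraMap (hasseDer H hH) c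
  by_cases hsep : Algebra.IsSeparable (IntermediateField.adjoin k ({t} : Set K)) K
  · exact Or.inr ⟨hc, hsep⟩
  refine Or.inl fun s H hH => ?_
  obtain ⟨p, hp⟩ := ExpChar.exists K
  by_contra hne
  refine hsep (isSeparable_adjoin hK p (transcendental_of_notMem hK hc) ?_)
  rcases ‹ExpChar K p› with _ | hprime
  · exact Or.inl rfl
  refine Or.inr fun y hy => hne ?_
  rw [← hy]
  show hasseDer H hH (y ^ p) = 0
  rw [Derivation.leibniz_pow, ← Nat.cast_smul_eq_nsmul K, CharP.cast_eq_zero, zero_smul]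

include hK in
theorem ord_hasseD_param {P : Place k K} {t : K} {H : K →ₐ[k] PowerSeries K} (ht : P.1 t = WithZero.exp (-1 : ℤ))
    (hH : LocRes.IsHasseFamily t H) {u : K} (hu : P.1 u = WithZero.exp (-1 : ℤ)) :
    LocRes.hasseD H 1 u ≠ 0 ∧ P.ord (LocRes.hasseD H 1 u) = 0 := by
  obtain ⟨Φ, hΦ, -⟩ := exists_expansion (deg_eq_one hK P) ht
  have h1 := v_deriv_uniformizer hΦ hu
  have h2 := vDiff_eq hK hΦ ht hH 1 u
  rw [LocRes.vDiff, map_one, one_mul, h1, one_mul] at h2
  have hne : LocRes.hasseD H 1 u ≠ 0 := fun e => by rw [e, map_zero] at h2; exact one_ne_zero h2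
  exact ⟨hne, (v_eq_one_iff P hne).1 h2.symm⟩

include hK in
/-- If all Wronskians of a linear system embedding the curve are multiples of one, the genus is small. -/
theorem key {D : Divisor k K} (hs : Sep2 D) {τ m : K} (F : Divisor k K)
    (h : ∀ (s : K) (H : K →ₐ[k] PowerSeries K), LocRes.IsHasseFamily s H → ∀ a ∈ L D, ∀ b ∈ L D,
      ∃ f ∈ L F, a * LocRes.hasseD H 1 b - b * LocRes.hasseD H 1 a = f * m * LocRes.hasseD H 1 τ) :
    2 * (genus k K : ℤ) - 2 + 2 * D.deg ≤ F.deg := by
  classical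
  have hpt : ∀ Q : Place k K, τ ∉ Set.range (algebraMap k K) ∧
      Algebra.IsSeparable (IntermediateField.adjoin k ({τ} : Set K)) K ∧ m ≠ 0 ∧
      dOrd hK τ Q + Q.ord m + 2 * D Q ≤ F Q := by
    intro Q
    obtain ⟨t, H, ht, hH, hdo⟩ := dOrd_spec hK Q
    haveI := Groth.Agent.S10976.result k K hK D
    have h1 := step hK D Q
    have h2 := step hK (D - Finsupp.single Q 1) Q
    have h3 := hs Q Q
    obtain ⟨a, ha, haQ, -⟩ := exists_avoid hK (E := D) (Q := Q) (R := Q) (by omega) (by omega)
    obtain ⟨b, hb, hbQ, -⟩ := exists_avoid hK (E := D - Finsupp.single Q 1) (Q := Q) (R := Q) (by omega) (by omega)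
    obtain ⟨ha0, hao⟩ := ord_eq_of_notMem ha haQ
    obtain ⟨hb0, hbo⟩ := ord_eq_of_notMem hb hbQ
    rw [Finsupp.sub_apply, Finsupp.single_eq_same] at hbo
    have hu : Q.1 (b / a) = WithZero.exp (-1 : ℤ) := by
      rw [v_eq Q (div_ne_zero hb0 ha0), div_eq_mul_inv, ord_mul Q hb0 (inv_ne_zero ha0), ord_inv, hao, hbo]
      congr 1
      ring
    obtain ⟨hDu, hDo⟩ := ord_hasseD_param hK ht hH hu
    obtain ⟨f, hf, he⟩ := h t H hH a ha b (L_mono (sub_single_le D Q) hb)
    rw [hasseD_div hH a b ha0] at he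
    have hne : f * m * LocRes.hasseD H 1 τ ≠ 0 := he ▸ mul_ne_zero (pow_ne_zero 2 ha0) hDu
    obtain ⟨hfm, hτ⟩ := mul_ne_zero_iff.1 hne
    obtain ⟨hf0, hm0⟩ := mul_ne_zero_iff.1 hfm
    have ho := congrArg Q.ord he
    rw [ord_mul Q (pow_ne_zero 2 ha0) hDu, ord_pow, hao, hDo, ord_mul Q hfm hτ, ord_mul Q hf0 hm0, ← hdo τ] at ho
    have hfQ := (mem_L_iff hf0).1 hf Q
    rcases hasseD_eq_zero_or_sep hK τ with h0 | ⟨hc, hsep⟩
    · exact absurd (h0 t H hH) hτ
    · exact ⟨hc, hsep, hm0, by push_cast at ho; omega⟩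
  haveI := infinite_places hK
  obtain ⟨Q₀⟩ := (inferInstance : Nonempty (Place k K))
  obtain ⟨hc, hsep, hm, -⟩ := hpt Q₀
  obtain ⟨C, hC, hCc⟩ := exists_canonical_dOrd hK (transcendental_of_notMem hK hc) hsep
  have hle : C + FunFld.div k m + (2 : ℕ) • D ≤ F := fun Q => by
    have h := (hpt Q).2.2.2
    simp only [Finsupp.add_apply, Finsupp.smul_apply, div_apply hK.1, hC, nsmul_eq_mul, Nat.cast_ofNat]
    omega
  have h := deg_mono hle
  rw [deg_add, deg_add, deg_div hK.1, deg_nsmul, (canonical_ell_deg hK hCc).2] at h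
  push_cast at h
  linarith

include hK in
theorem deg_ge {D : Divisor k K} (h : 1 ≤ ell D) : (ell D : ℤ) ≤ D.deg + 1 := by
  obtain ⟨z, hz, he⟩ := exists_effective_of_ell_pos hK.1 (D := D) (by omega)
  have h1 := ell_le_deg_add_one hK he
  rwa [ell_add_div hK.1 _ hz, deg_add, deg_div hK.1, add_zero] at h1

include hK in
theorem Iso.mul {W : Submodule k K} (hW : Iso W) {e₀ h : K} (he : e₀ ∈ W) (he0 : e₀ ≠ 0) (hh : h ∈ W) {s : K}
    {H : K →ₐ[k] PowerSeries K} (hH : LocRes.IsHasseFamily s H) :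
    LocRes.hasseD H 1 (h / e₀) = 0 := by
  have := hW e₀ he h hh s H hH
  rw [hasseD_div hH e₀ h he0] at this
  exact (mul_eq_zero.1 this).resolve_left (pow_ne_zero 2 he0)

include hK in
/-- No hyperplane of an embedding system has only vanishing Wronskians. -/
theorem not_iso_hyperplane {D : Divisor k K} (hs : Sep2 D) (h4 : 4 ≤ ell D) {S : Submodule k K} (hSD : S ≤ L D)
    (hS : ell D ≤ Module.finrank k S + 1) (hiso : Iso S) : False := by
  classical
  haveI := Groth.Agent.S10976.result k K hK D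
  haveI : Module.Finite k S := Submodule.finiteDimensional_of_le hSD
  obtain ⟨e₀, he, he0⟩ : ∃ e₀ ∈ S, e₀ ≠ 0 := by
    refine (Submodule.ne_bot_iff _).1 fun hb => ?_
    rw [hb, finrank_bot] at hS
    omega
  obtain ⟨z, hz⟩ : ∃ z : K, L D ≤ S ⊔ Submodule.span k ({z} : Set K) := by
    by_cases hall : L D ≤ S
    · exact ⟨0, le_sup_of_le_left hall⟩
    obtain ⟨z, hz, hzS⟩ := SetLike.not_le_iff_exists.1 hall
    have hsup : S ⊔ Submodule.span k ({z} : Set K) ≤ L D :=
      sup_le hSD (by rwa [Submodule.span_le, Set.singleton_subset_iff])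
    haveI := Submodule.finiteDimensional_of_le hsup
    have hlt : S < S ⊔ Submodule.span k ({z} : Set K) :=
      lt_of_le_of_ne le_sup_left fun e => hzS (e ▸ Submodule.mem_sup_right (Submodule.mem_span_singleton_self z))
    have h1 := Submodule.finrank_lt_finrank_of_lt hlt
    exact ⟨z, (Submodule.eq_of_le_of_finrank_le hsup (show ell D ≤ _ by omega)).ge⟩
  have hk := key hK hs (τ := z / e₀) (m := e₀) D ?_
  · have := deg_ge hK (D := D) (by omega)
    omega
  intro s H hH a ha b hb
  obtain ⟨p, hp, q, hq, rfl⟩ := Submodule.mem_sup.1 (hz ha)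
  obtain ⟨α, rfl⟩ := Submodule.mem_span_singleton.1 hq
  obtain ⟨p', hp', q', hq', rfl⟩ := Submodule.mem_sup.1 (hz hb)
  obtain ⟨β, rfl⟩ := Submodule.mem_span_singleton.1 hq'
  refine ⟨β • p - α • p', sub_mem (Submodule.smul_mem _ _ (hSD hp)) (Submodule.smul_mem _ _ (hSD hp')), ?_⟩
  have h1 := hiso.mul hK he he0 hp hH
  have h2 := hiso.mul hK he he0 hp' hH
  let δ := hasseDer H hH
  have e1 : ∀ x, LocRes.hasseD H 1 x = δ x := fun x => rfl
  simp only [e1] at h1 h2 ⊢
  rw [Derivation.leibniz_div, smul_eq_mul, smul_eq_mul] at h1 h2 ⊢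
  have k1 : e₀ * δ p - p * δ e₀ = 0 := by
    field_simp at h1
    linear_combination h1
  have k2 : e₀ * δ p' - p' * δ e₀ = 0 := by
    field_simp at h2
    linear_combination h2
  simp only [map_add, Algebra.smul_def, map_mul, Derivation.leibniz, Derivation.map_algebraMap, smul_eq_mul, mul_zero, zero_mul, add_zero]
  field_simp
  linear_combination (p + algebraMap k K α * z) * k2 - (p' + algebraMap k K β * z) * k1

include hK in
/-- The projection from a point of the curve is separable. -/
theorem not_iso_sub {D : Divisor k K} (hs : Sep2 D) (h4 : 4 ≤ ell D) (P : Place k K) :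
    ¬ Iso (L (D - Finsupp.single P 1)) := fun h =>
  not_iso_hyperplane hK hs h4 (L_mono (sub_single_le D P)) (step hK D P) h

include hK in
/-- Some tangent line, outside any finite set, gives a separable projection. -/
theorem exists_not_iso {D : Divisor k K} (hs : Sep2 D) (h4 : 4 ≤ ell D) {B : Set (Place k K)} (hB : B.Finite) :
    ∃ Q ∉ B, ¬ Iso (L (D - Finsupp.single Q 1 - Finsupp.single Q 1)) := by
  classical
  by_contra hall
  push Not at hall
  haveI := infinite_places hK
  obtain ⟨Q, -, hQ⟩ := Set.infinite_univ.exists_notMem_finite hB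
  set W := L (D - Finsupp.single Q 1 - Finsupp.single Q 1) with hWdef
  have hlW : Module.finrank k W + 2 = ell D := hs Q Q
  obtain ⟨w₀, hw, hw0⟩ := exists_ne_zero hK (E := D - Finsupp.single Q 1 - Finsupp.single Q 1)
    (by have := hs Q Q; omega)
  have hwD : w₀ ∈ L D := L_mono ((sub_single_le _ Q).trans (sub_single_le D Q)) hw
  obtain ⟨Q', -, hQ'⟩ := Set.infinite_univ.exists_notMem_finite (hB.union (finite_zeros hK hwD hw0))
  simp only [Set.mem_union, Set.mem_setOf_eq, not_or] at hQ'
  set W' := L (D - Finsupp.single Q' 1 - Finsupp.single Q' 1) with hWdef'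
  have hlW' : Module.finrank k W' + 2 = ell D := hs Q' Q'
  have hwW' : w₀ ∉ W' := fun h => hQ'.2 (L_mono (sub_single_le _ Q') h)
  have hisoW := hall Q hQ
  have hisoW' := hall Q' hQ'.1
  have hWD : W ≤ L D := L_mono ((sub_single_le _ Q).trans (sub_single_le D Q))
  have hWD' : W' ≤ L D := L_mono ((sub_single_le _ Q').trans (sub_single_le D Q'))
  haveI := Groth.Agent.S10976.result k K hK D
  haveI : Module.Finite k W := Submodule.finiteDimensional_of_le hWD
  haveI : Module.Finite k W' := Submodule.finiteDimensional_of_le hWD'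
  by_cases hinf : W ⊓ W' = ⊥
  · -- skew tangent lines
    have hsum := Submodule.finrank_sup_add_finrank_inf_eq W W'
    rw [hinf, finrank_bot, add_zero] at hsum
    have hle : Module.finrank k ↥(W ⊔ W') ≤ ell D := Submodule.finrank_mono (sup_le hWD hWD')
    have hsup : W ⊔ W' = L D := Submodule.eq_of_le_of_finrank_le (sup_le hWD hWD') (by
      show ell D ≤ _
      omega)
    obtain ⟨e₁, he, he0⟩ := exists_ne_zero hK (E := D - Finsupp.single Q' 1 - Finsupp.single Q' 1)
      (by have := hs Q' Q'; omega)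
    have hk := key hK hs (τ := e₁ / w₀) (m := w₀ / e₁)
      ((D - Finsupp.single Q 1 - Finsupp.single Q 1) + (D - Finsupp.single Q' 1 - Finsupp.single Q' 1)) ?_
    · have := deg_ge hK (D := D) (by omega)
      simp only [deg_add, deg_sub, deg_single, deg_eq_one hK, Nat.cast_one, mul_one] at hk
      omega
    intro s H hH a ha b hb
    rw [← hsup] at ha hb
    obtain ⟨p, hp, q, hq, rfl⟩ := Submodule.mem_sup.1 ha
    obtain ⟨p', hp', q', hq', rfl⟩ := Submodule.mem_sup.1 hb
    refine ⟨p * q' - p' * q, sub_mem (CurveH0Lib.mul_mem_L hp hq') (CurveH0Lib.mul_mem_L hp' hq), ?_⟩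
    let δ := hasseDer H hH
    have e1 : ∀ x, LocRes.hasseD H 1 x = δ x := fun x => rfl
    have h1 := hisoW.mul hK hw hw0 hp hH
    have h2 := hisoW.mul hK hw hw0 hp' hH
    have h3 := hisoW'.mul hK he he0 hq hH
    have h4 := hisoW'.mul hK he he0 hq' hH
    simp only [e1] at h1 h2 h3 h4 ⊢
    rw [Derivation.leibniz_div, smul_eq_mul, smul_eq_mul] at h1 h2 h3 h4 ⊢
    field_simp at h1 h2 h3 h4
    simp only [map_add]
    field_simp
    have k1 : w₀ * δ p - p * δ w₀ = 0 := by linear_combination h1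
    have k2 : w₀ * δ p' - p' * δ w₀ = 0 := by linear_combination h2
    have k3 : e₁ * δ q - q * δ e₁ = 0 := by linear_combination h3
    have k4 : e₁ * δ q' - q' * δ e₁ = 0 := by linear_combination h4
    linear_combination (p + q) * (e₁ * k2) + (p + q) * (w₀ * k4) - (p' + q') * (e₁ * k1) - (p' + q') * (w₀ * k3)
  · -- tangent lines sharing a function
    obtain ⟨e₀, he, he0⟩ := (Submodule.ne_bot_iff _).1 hinf
    obtain ⟨heW, heW'⟩ := Submodule.mem_inf.1 he
    have hlt : W' < W ⊔ W' :=
      lt_of_le_of_ne le_sup_right fun e => hwW' (e ▸ Submodule.mem_sup_left hw)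
    haveI : Module.Finite k ↥(W ⊔ W') := Submodule.finiteDimensional_of_le (sup_le hWD hWD')
    have := Submodule.finrank_lt_finrank_of_lt hlt
    refine not_iso_hyperplane hK hs h4 (sup_le hWD hWD') (by omega) fun a ha b hb s H hH => ?_
    have hdiv : ∀ x ∈ W ⊔ W', LocRes.hasseD H 1 (x / e₀) = 0 := fun x hx => by
      obtain ⟨p, hp, q, hq, rfl⟩ := Submodule.mem_sup.1 hx
      rw [add_div, hasseD_sub hH, hisoW.mul hK heW he0 hp hH, hisoW'.mul hK heW' he0 hq hH, add_zero]
    let δ := hasseDer H hH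
    have e1 : ∀ x, LocRes.hasseD H 1 x = δ x := fun x => rfl
    have h1 := hdiv a ha
    have h2 := hdiv b hb
    simp only [e1] at h1 h2 ⊢
    rw [Derivation.leibniz_div, smul_eq_mul, smul_eq_mul] at h1 h2
    field_simp at h1 h2
    refine mul_left_cancel₀ he0 ?_
    linear_combination a * h2 - b * h1

end SpaceCurveLib

end
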